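import Groth.Prelude.Def_W4bk4grossh111Obs
import Mathlib

/-! Global functions on an affine group seen through points. -/

set_option autoImplicit false
set_option backward.isDefEq.respectTransparency false

universe u

open CategoryTheory MonoidalCategory CartesianMonoidalCategory MonObj AlgebraicGeometry
open scoped TensorProduct

noncomputable section

namespace Groth.Agent.AGFObs

variable {k : Type u} [Field k]

/-- Global functions on a `k`-scheme as a `k`-algebra. -/
abbrev algΓ (X : Over (Spec (CommRingCat.of k))) : Algebra k Γ(X.left, ⊤) :=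
  ((Scheme.ΓSpecIso (CommRingCat.of k)).inv ≫ X.hom.appTop).hom.toAlgebra

attribute [local instance] algΓ

variable {X Y : Over (Spec (CommRingCat.of k))}

theorem Γmap_commutes (f : X ⟶ Y) (r : k) :
    f.left.appTop.hom (algebraMap k Γ(Y.left, ⊤) r) = algebraMap k Γ(X.left, ⊤) r := by
  show ((Scheme.ΓSpecIso (CommRingCat.of k)).inv ≫ Y.hom.appTop ≫ f.left.appTop).hom r = _
  rw [← Scheme.Hom.comp_appTop, Over.w f]
  rfl

/-- Pullback of functions. -/
def Γmap (f : X ⟶ Y) : Γ(Y.left, ⊤) →ₐ[k] Γ(X.left, ⊤) :=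
  { f.left.appTop.hom with commutes' := Γmap_commutes f }

theorem Γmap_apply (f : X ⟶ Y) (a : Γ(Y.left, ⊤)) : Γmap f a = f.left.appTop.hom a := rfl

theorem Γmap_comp {Z : Over (Spec (CommRingCat.of k))} (f : X ⟶ Y) (g : Y ⟶ Z) :
    Γmap (f ≫ g) = (Γmap f).comp (Γmap g) := by
  refine AlgHom.ext fun a => ?_
  show (f.left ≫ g.left).appTop.hom a = _
  rw [Scheme.Hom.comp_appTop]
  rfl

variable {B : Type u} [CommRing B] [Algebra k B]

theorem pt_commutes (r : k) : (Scheme.ΓSpecIso (CommRingCat.of B)).hom.hom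
    (algebraMap k Γ((VecGrp.pt k B).left, ⊤) r) = algebraMap k B r := by
  show ((Scheme.ΓSpecIso (CommRingCat.of k)).inv ≫ (Spec.map (CommRingCat.ofHom (algebraMap k B))).appTop ≫
    (Scheme.ΓSpecIso (CommRingCat.of B)).hom).hom r = _
  rw [Scheme.ΓSpecIso_naturality, Iso.inv_hom_id_assoc]
  rfl

/-- Evaluation of functions at a point. -/
def ev (x : VecGrp.pt k B ⟶ X) : Γ(X.left, ⊤) →ₐ[k] B :=
  (({ (Scheme.ΓSpecIso (CommRingCat.of B)).hom.hom with commutes' := pt_commutes } :
    Γ((VecGrp.pt k B).left, ⊤) →ₐ[k] B)).comp (Γmap x)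

theorem ev_comp (x : VecGrp.pt k B ⟶ X) (f : X ⟶ Y) : ev (x ≫ f) = (ev x).comp (Γmap f) := by
  show AlgHom.comp _ (Γmap (x ≫ f)) = _
  rw [Γmap_comp]
  rfl

/-- The tautological point of an affine scheme. -/
def taut (X : Over (Spec (CommRingCat.of k))) [IsAffine X.left] : VecGrp.pt k Γ(X.left, ⊤) ⟶ X :=
  Over.homMk X.left.isoSpec.inv (by
    show X.left.isoSpec.inv ≫ X.hom = Spec.map (CommRingCat.ofHom (algebraMap k Γ(X.left, ⊤)))
    rw [Iso.inv_comp_eq]
    show X.hom = X.left.isoSpec.hom ≫ Spec.map ((Scheme.ΓSpecIso (CommRingCat.of k)).inv ≫ X.hom.appTop)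
    rw [Spec.map_comp, ← Category.assoc, Scheme.isoSpec_hom_naturality, Category.assoc, Scheme.isoSpec_Spec_hom,
      ← Spec.map_comp, Iso.inv_hom_id, Spec.map_id, Category.comp_id])

theorem ptMap_ev [IsAffine X.left] (x : VecGrp.pt k B ⟶ X) : VecGrp.ptMap (ev x) ≫ taut X = x := by
  apply Over.OverMorphism.ext
  show Spec.map (x.left.appTop ≫ (Scheme.ΓSpecIso (CommRingCat.of B)).hom) ≫ X.left.isoSpec.inv = x.left
  rw [Iso.comp_inv_eq, ← Scheme.isoSpec_hom_naturality, Scheme.isoSpec_Spec_hom, Spec.map_comp]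

theorem ev_ext [IsAffine X.left] {x y : VecGrp.pt k B ⟶ X} (h : ev x = ev y) : x = y := by
  rw [← ptMap_ev x, h, ptMap_ev]

theorem ev_taut [IsAffine X.left] : ev (taut X) = AlgHom.id k Γ(X.left, ⊤) := by
  have h := congrArg CommaMorphism.left (ptMap_ev (taut X))
  have h' : Spec.map (CommRingCat.ofHom (ev (taut X)).toRingHom) ≫ X.left.isoSpec.inv =
      Spec.map (𝟙 _) ≫ X.left.isoSpec.inv := by
    rw [Spec.map_id]
    exact h.trans (Category.id_comp _).symm
  exact AlgHom.coe_ringHom_injective (congrArg CommRingCat.Hom.hom (Spec.map_injective ((cancel_mono _).mp h')))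

end Groth.Agent.AGFObs
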