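import Mathlib
import Groth.Prelude.Def_HopfRep
import Groth.Prelude.Def_ComodTens
import Groth.Agent.Comodule.Coalg
import Groth.Agent.Comodule.SubStruct

/-! Comodules of an open subgroup extend. -/

set_option autoImplicit false
set_option backward.isDefEq.respectTransparency false

universe u

open scoped TensorProduct

noncomputable section

namespace Groth.Agent.AGFObs

open Comodule

theorem exists_idempotent_of_flat_quotient {A B : Type u} [CommRing A] [IsNoetherianRing A] [CommRing B] (π : A →+* B)
    (hπ : Function.Surjective π) (hflat : π.Flat) :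
    ∃ e : A, e * e = e ∧ π e = 1 ∧ ∀ x, π x = 0 → e * x = 0 := by
  let I := RingHom.ker π
  haveI : Module.Flat A (A ⧸ I) := by
    algebraize [π]
    exact Module.Flat.of_linearEquiv (Ideal.quotientKerAlgEquivOfSurjective (f := Algebra.ofId A B) hπ).toLinearEquiv
  have hI : IsIdempotentElem I := by
    refine le_antisymm Ideal.mul_le_left fun x hx => ?_
    have hinj := Module.Flat.rTensor_preserves_injective_linearMap (M := A ⧸ I) I.subtype I.injective_subtype
    have h0 : (⟨x, hx⟩ : I) ⊗ₜ[A] (Ideal.Quotient.mk I 1) = 0 := by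
      apply hinj
      rw [map_zero, LinearMap.rTensor_tmul]
      apply (TensorProduct.lid A (A ⧸ I)).injective
      simp only [TensorProduct.lid_tmul, map_zero, Submodule.subtype_apply, Algebra.smul_def, map_one, mul_one]
      exact Ideal.Quotient.eq_zero_iff_mem.mpr hx
    have h1 := congrArg (TensorProduct.tensorQuotEquivQuotSMul I I) h0
    rw [map_zero] at h1
    have h2 : TensorProduct.tensorQuotEquivQuotSMul I I ((⟨x, hx⟩ : I) ⊗ₜ[A] Ideal.Quotient.mk I 1) =
        Submodule.Quotient.mk ((1 : A) • (⟨x, hx⟩ : I)) := by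
      rw [TensorProduct.tensorQuotEquivQuotSMul, LinearEquiv.trans_apply, TensorProduct.comm_tmul,
        TensorProduct.quotTensorEquivQuotSMul_mk_tmul]
    rw [h2, one_smul, Submodule.Quotient.mk_eq_zero] at h1
    have h3 := Submodule.mem_map_of_mem (f := I.subtype) h1
    rwa [Submodule.map_smul'', Submodule.map_top, Submodule.range_subtype, smul_eq_mul] at h3
  obtain ⟨f, hf, hfI⟩ := (Ideal.isIdempotentElem_iff_of_fg I (IsNoetherian.noetherian I)).mp hI
  refine ⟨1 - f, hf.one_sub, ?_, fun x hx => ?_⟩
  · have : π f = 0 := by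
      show f ∈ I
      rw [hfI]; exact Submodule.subset_span rfl
    rw [map_sub, map_one, this, sub_zero]
  · obtain ⟨c, hc⟩ := Ideal.mem_span_singleton'.mp (show x ∈ Ideal.span {f} by
      rw [show Ideal.span {f} = I from hfI.symm]; exact hx)
    rw [← hc, sub_mul, one_mul, mul_left_comm, hf.eq, sub_self]

variable {k : Type u} [Field k] {A B : Type u} [CommRing A] [HopfAlgebra k A] [CommRing B] [HopfAlgebra k B]

/-- `a ↦ a₁ ⊗ u a₂`. -/
def twistBy (u : A →ₐ[k] B) : A →ₐ[k] A ⊗[k] B :=
  (Algebra.TensorProduct.map (AlgHom.id k A) u).comp (Bialgebra.comulAlgHom k A)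

theorem twistBy_eq (u : A →ₐ[k] B) (a : A) :
    twistBy u a = u.toLinearMap.lTensor A (Coalgebra.comul (R := k) a) := rfl

/-- Translation by `u`. -/
def transl (u : A →ₐ[k] B) : A ⊗[k] B →ₐ[k] A ⊗[k] B :=
  Algebra.TensorProduct.lift (twistBy u) Algebra.TensorProduct.includeRight fun _ _ => mul_comm _ _

theorem transl_twistBy (u v : A →ₐ[k] B) (huv : ∀ a, Algebra.TensorProduct.lift u v (fun _ _ => mul_comm _ _)
    (Coalgebra.comul (R := k) a) = algebraMap k B (Coalgebra.counit (R := k) a)) (a : A) :
    transl u (twistBy v a) = a ⊗ₜ[k] 1 := by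
  let M : A ⊗[k] A →ₗ[k] B := (Algebra.TensorProduct.lift u v fun _ _ => mul_comm _ _).toLinearMap
  have key : ∀ x : A ⊗[k] A, transl u (v.toLinearMap.lTensor A x) =
      M.lTensor A (TensorProduct.assoc k A A A ((Coalgebra.comul (R := k) (A := A)).rTensor A x)) := by
    intro x
    induction x with
    | zero => simp
    | add p q hp hq => simp only [map_add, hp, hq]
    | tmul p q =>
      simp only [LinearMap.lTensor_tmul, LinearMap.rTensor_tmul, transl, Algebra.TensorProduct.lift_tmul,
        AlgHom.toLinearMap_apply, twistBy_eq, Algebra.TensorProduct.includeRight_apply]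
      induction Coalgebra.comul (R := k) p with
      | zero => simp
      | add r s hr hs => simp only [map_add, add_mul, TensorProduct.add_tmul, hr, hs]
      | tmul r s => simp [M, Algebra.TensorProduct.tmul_mul_tmul]
  rw [twistBy_eq, key, Coalgebra.coassoc_apply, ← LinearMap.lTensor_comp_apply,
    show M ∘ₗ Coalgebra.comul = Algebra.linearMap k B ∘ₗ Coalgebra.counit from LinearMap.ext huv,
    LinearMap.lTensor_comp_apply, Coalgebra.lTensor_counit_comul]
  simp

variable (π : A →ₐc[k] B) (e : A)

theorem tmul_one_mul_eq (hker : ∀ x, π x = 0 → e * x = 0) {s : B →ₗ[k] A}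
    (hs : ∀ a, s (π a) = e * a) (z : A ⊗[k] B) :
    (e ⊗ₜ[k] (1 : B)) * z = s.rTensor B ((π : A →ₗ[k] B).rTensor B z) := by
  induction z with
  | zero => simp
  | add p q hp hq => simp only [mul_add, map_add, hp, hq]
  | tmul a b =>
    rw [Algebra.TensorProduct.tmul_mul_tmul, one_mul, LinearMap.rTensor_tmul, LinearMap.rTensor_tmul]
    show _ = s (π a) ⊗ₜ[k] b
    rw [hs]

theorem twistBy_idem (he : e * e = e) (h1 : π e = 1) (hker : ∀ x, π x = 0 → e * x = 0) {s : B →ₗ[k] A}
    (hs : ∀ a, s (π a) = e * a) : twistBy (π : A →ₐ[k] B) e = e ⊗ₜ[k] 1 := by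
  let S : A →ₐ[k] B := (HopfAlgebra.antipodeAlgHom k B).comp (π : A →ₐ[k] B)
  have hE : ∀ (u : A →ₐ[k] B) (u' : B →ₐ[k] B), u = u'.comp (π : A →ₐ[k] B) →
      (e ⊗ₜ[k] (1 : B)) * twistBy u e = e ⊗ₜ[k] 1 := by
    rintro u u' rfl
    rw [tmul_one_mul_eq π e hker hs]
    have h : (π : A →ₗ[k] B).rTensor B (twistBy (u'.comp (π : A →ₐ[k] B)) e) =
        u'.toLinearMap.lTensor B (Coalgebra.comul (R := k) (π e)) := by
      rw [twistBy_eq, ← CoalgHomClass.map_comp_comul_apply]
      induction Coalgebra.comul (R := k) e with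
      | zero => simp
      | add p q hp hq => simp only [map_add, hp, hq]
      | tmul p q => simp
    rw [h, h1, Bialgebra.comul_one, Algebra.TensorProduct.one_def, LinearMap.lTensor_tmul, AlgHom.toLinearMap_apply,
      map_one u', LinearMap.rTensor_tmul]
    congr 1
    rw [← h1, hs, he]
  have hT := hE (π : A →ₐ[k] B) (AlgHom.id k B) (AlgHom.id_comp _).symm
  have hT' := hE S (HopfAlgebra.antipodeAlgHom k B) rfl
  have hfix : transl (π : A →ₐ[k] B) (twistBy S e) = e ⊗ₜ[k] 1 := by
    refine transl_twistBy _ _ (fun a => ?_) e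
    have h := HopfAlgebra.mul_antipode_lTensor_comul_apply (R := k) (π a)
    rw [CoalgHomClass.counit_comp_apply] at h
    rw [← h, ← CoalgHomClass.map_comp_comul_apply]
    induction Coalgebra.comul (R := k) a with
    | zero => simp
    | add p q hp hq => simp only [map_add, hp, hq]
    | tmul p q => simp [S]
  have hτ : transl (π : A →ₐ[k] B) (e ⊗ₜ[k] (1 : B)) = twistBy (π : A →ₐ[k] B) e := by
    rw [transl, Algebra.TensorProduct.lift_tmul, map_one, mul_one]
  have h2 := congrArg (transl (π : A →ₐ[k] B)) hT'
  rw [map_mul, hτ, hfix, mul_comm] at h2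
  exact h2.symm.trans hT

omit [HopfAlgebra k B] in
theorem eq_zero_of_proj [Algebra k B] {ι M : Type u} [Fintype ι] [AddCommGroup M] [Module k M] (z : (ι → M) ⊗[k] B)
    (hz : ∀ j, (LinearMap.proj (R := k) (φ := fun _ : ι => M) j).rTensor B z = 0) : z = 0 := by
  classical
  have hid : ∀ z : (ι → M) ⊗[k] B, z = ∑ j, (LinearMap.single k (fun _ : ι => M) j).rTensor B
      ((LinearMap.proj (R := k) (φ := fun _ : ι => M) j).rTensor B z) := by
    intro z
    induction z with
    | zero => simp
    | add p q hp hq => simp only [map_add, Finset.sum_add_distrib]; rw [← hp, ← hq]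
    | tmul f b =>
      simp only [LinearMap.rTensor_tmul, ← TensorProduct.sum_tmul, LinearMap.proj_apply]
      congr 1
      exact (Finset.univ_sum_single f).symm
  rw [hid z]
  exact Finset.sum_eq_zero fun j _ => by rw [hz j, map_zero]

/-- A comodule of an open subgroup embeds in a finite comodule of the group. -/
theorem exists_extension (he : e * e = e) (h1 : π e = 1) (hker : ∀ x, π x = 0 → e * x = 0)
    (hπ : Function.Surjective π)
    {V : Type u} [AddCommGroup V] [Module k V] [Module.Finite k V] (d : HopfRep.Comod k B V) :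
    ∃ (W : Type u) (_ : AddCommGroup W) (_ : Module k W) (c : HopfRep.Comod k A W) (_ : Module.Finite k W)
      (φ : V →ₗ[k] W), Function.Injective φ ∧
        ∀ v, (π : A →ₗ[k] B).lTensor W (c.coact (φ v)) = φ.rTensor B (d.coact v) := by
  classical
  have hwd : ∀ a a', π a = π a' → e * a = e * a' := fun a a' h => by
    rw [← sub_eq_zero, ← mul_sub]; exact hker _ (by rw [map_sub, h, sub_self])
  choose g hg using hπ
  let s : B →ₗ[k] A :=
    { toFun := fun b => e * g b
      map_add' := fun b b' => by rw [← mul_add]; exact hwd _ _ (by rw [hg, map_add, hg, hg])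
      map_smul' := fun r b => by rw [RingHom.id_apply, ← mul_smul_comm]; exact hwd _ _ (by rw [hg, map_smul, hg]) }
  have hs : ∀ a, s (π a) = e * a := fun a => hwd _ _ (hg _)
  have hT := twistBy_idem π e he h1 hker hs
  have key : ∀ b : B, (π : A →ₗ[k] B).lTensor A (Coalgebra.comul (R := k) (s b)) =
      s.rTensor B (Coalgebra.comul (R := k) b) := by
    intro b
    obtain ⟨a, rfl⟩ : ∃ a, π a = b := ⟨g b, hg b⟩
    show twistBy (π : A →ₐ[k] B) (s (π a)) = _
    rw [hs, map_mul, hT, tmul_one_mul_eq π e hker hs, twistBy_eq, ← CoalgHomClass.map_comp_comul_apply]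
    congr 1
    induction Coalgebra.comul (R := k) a with
    | zero => simp
    | add p q hp hq => simp only [map_add, hp, hq]
    | tmul p q => simp
  have hεs : ∀ b, Coalgebra.counit (R := k) (s b) = Coalgebra.counit (R := k) b := fun b => by
    obtain ⟨a, rfl⟩ : ∃ a, π a = b := ⟨g b, hg b⟩
    rw [hs, Bialgebra.counit_mul, CoalgHomClass.counit_comp_apply, ← CoalgHomClass.counit_comp_apply π e, h1,
      Bialgebra.counit_one, one_mul]
  -- coefficients
  letI := d
  let bV := Module.finBasis k V
  let m : Fin (Module.finrank k V) → V →ₗ[k] B := fun j =>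
    (TensorProduct.lid k B).toLinearMap ∘ₗ (bV.coord j).rTensor B ∘ₗ d.coact
  have hm : ∀ j v, Coalgebra.comul (R := k) (m j v) = (m j).rTensor B (d.coact v) := by
    intro j v
    have hc := congrArg (fun z => TensorProduct.lid k (B ⊗[k] B) ((bV.coord j).rTensor (B ⊗[k] B) z))
      (LinearMap.congr_fun d.coassoc v)
    simp only [LinearMap.comp_apply, LinearEquiv.coe_coe] at hc
    refine Eq.trans ?_ (Eq.trans hc.symm ?_)
    · show Coalgebra.comul (R := k) (TensorProduct.lid k B ((bV.coord j).rTensor B (d.coact v))) = _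
      induction d.coact v with
      | zero => simp
      | add p q hp hq => simp only [map_add, hp, hq]
      | tmul p q => simp
    · induction d.coact v with
      | zero => simp
      | add p q hp hq => simp only [map_add, hp, hq]
      | tmul p q =>
        show _ = (TensorProduct.lid k B ((bV.coord j).rTensor B (d.coact p))) ⊗ₜ[k] q
        simp only [LinearMap.rTensor_tmul]
        induction d.coact p with
        | zero => simp
        | add r t hr ht => simp only [map_add, TensorProduct.add_tmul, hr, ht]
        | tmul r t => simp [TensorProduct.smul_tmul']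
  let gen : Set A := Set.range fun q : Fin (Module.finrank k V) × Fin (Module.finrank k V) => s (m q.1 (bV q.2))
  let V₀ : Submodule k A := (Submodule.span (WithConv (A →ₗ[k] k)) gen).restrictScalars k
  haveI : Module.Finite k V₀ := finite_span_of_finite (Set.finite_range _)
  have hV₀ : HopfRep.IsSubcomod (k := k) (A := A) V₀ := isSubcomod_restrictScalars _
  have hmem : ∀ j v, s (m j v) ∈ V₀ := by
    intro j v
    rw [← bV.sum_repr v, map_sum, map_sum]
    refine Submodule.sum_mem _ fun l _ => ?_
    rw [map_smul, map_smul]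
    exact Submodule.smul_mem _ _ (Submodule.subset_span ⟨(j, l), rfl⟩)
  let c := ComodTens.Comod.pi (k := k) (A := A) (X := fun _ : ULift.{u} (Fin (Module.finrank k V)) => V₀)
    fun _ => subComod V₀ hV₀
  let φ : V →ₗ[k] (ULift.{u} (Fin (Module.finrank k V)) → V₀) :=
    LinearMap.pi fun j => (s ∘ₗ m j.down).codRestrict V₀ (hmem _)
  refine ⟨_, inferInstance, inferInstance, c, inferInstance, φ, ?_, fun v => ?_⟩
  · intro v w h
    apply bV.ext_elem
    intro j
    have h2 := congrArg (fun f => Coalgebra.counit (R := k) ((f ⟨j⟩ : V₀) : A)) h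
    have hcv : ∀ v, Coalgebra.counit (R := k) (m j v) = bV.repr v j := fun v => by
      have hc := congrArg (fun z => TensorProduct.lid k k ((bV.coord j).rTensor k z)) (LinearMap.congr_fun d.counit_comp v)
      simp only [LinearMap.comp_apply, LinearMap.flip_apply, TensorProduct.mk_apply, LinearMap.rTensor_tmul,
        TensorProduct.lid_tmul, smul_eq_mul, mul_one, Module.Basis.coord_apply] at hc
      rw [← hc]
      show Coalgebra.counit (R := k) (TensorProduct.lid k B ((bV.coord j).rTensor B (d.coact v))) = _
      induction d.coact v with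
      | zero => simp
      | add p q hp hq => simp only [map_add, hp, hq]
      | tmul p q => simp
    change Coalgebra.counit (R := k) (s (m j v)) = Coalgebra.counit (R := k) (s (m j w)) at h2
    rwa [hεs, hεs, hcv, hcv] at h2
  · let S : ULift.{u} (Fin (Module.finrank k V)) → (ULift.{u} (Fin (Module.finrank k V)) → V₀) →ₗ[k] A :=
      fun j => V₀.subtype ∘ₗ LinearMap.proj j
    have hsep : ∀ z : (ULift.{u} (Fin (Module.finrank k V)) → V₀) ⊗[k] B,
        (∀ j, (S j).rTensor B z = 0) → z = 0 := by
      intro z hz
      refine eq_zero_of_proj z fun j => ?_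
      have h := hz j
      rw [LinearMap.rTensor_comp_apply] at h
      exact (Module.Flat.rTensor_preserves_injective_linearMap (M := B) _ V₀.injective_subtype)
        (h.trans (map_zero _).symm)
    refine sub_eq_zero.mp (hsep _ fun j => ?_)
    rw [map_sub, sub_eq_zero, ← ComodTens.lTensor_rTensor_comm, ← LinearMap.rTensor_comp_apply]
    have hc : ∀ w, (S j).rTensor A (c.coact w) = Coalgebra.comul (R := k) ((w j : V₀) : A) := by
      intro w
      rw [ComodTens.pi_coact, map_sum, Finset.sum_eq_single j]
      · rw [← LinearMap.rTensor_comp_apply]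
        rw [show S j ∘ₗ LinearMap.single k (fun _ => V₀) j = V₀.subtype from LinearMap.ext fun x => by simp [S]]
        exact rTensor_subCoact V₀ hV₀ _
      · intro l _ hl
        rw [← LinearMap.rTensor_comp_apply, show S j ∘ₗ LinearMap.single k (fun _ => V₀) l = 0 from
          LinearMap.ext fun x => by simp [S, Pi.single_eq_of_ne' hl], LinearMap.rTensor_zero]
        rfl
      · exact fun h => absurd (Finset.mem_univ j) h
    rw [hc]
    show (π : A →ₗ[k] B).lTensor A (Coalgebra.comul (R := k) (s (m j.down v))) = _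
    rw [key, hm, ← LinearMap.rTensor_comp_apply]
    rfl

end Groth.Agent.AGFObs
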