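import Groth.Agent.AGFObsLib.Basic

/-! Matrix coefficients and invariance under translations. -/

set_option autoImplicit false
set_option backward.isDefEq.respectTransparency false

universe u

open CategoryTheory MonoidalCategory CartesianMonoidalCategory MonObj AlgebraicGeometry
open scoped TensorProduct

noncomputable section

namespace Groth.Agent.AGFObs

attribute [local instance] algΓ

variable {k : Type u} [Field k] {G H : Over (Spec (CommRingCat.of k))} [GrpObj G]
variable {M : Type u} [AddCommGroup M] [Module k M]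

/-- The coefficient against a linear form. -/
def coef (l : M →ₗ[k] k) (B : Type u) [CommRing B] [Algebra k B] : B ⊗[k] M →ₗ[k] B :=
  (TensorProduct.rid k B).toLinearMap ∘ₗ l.lTensor B

theorem coef_natural (l : M →ₗ[k] k) {B B' : Type u} [CommRing B] [Algebra k B] [CommRing B'] [Algebra k B']
    (φ : B →ₐ[k] B') (z : B ⊗[k] M) : φ (coef l B z) = coef l B' (VecGrp.Wmap φ z) := by
  induction z with
  | zero => simp
  | add p q hp hq => simp only [map_add, hp, hq]
  | tmul b x => simp [coef, VecGrp.Wmap_tmul]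

variable [IsAffine G.left]

/-- The matrix coefficient function. -/
def matCoef (ρ : VecGrp.GMod G M) (l : M →ₗ[k] k) (a : M) : Γ(G.left, ⊤) :=
  coef l Γ(G.left, ⊤) (ρ.ρ Γ(G.left, ⊤) (taut G) ((1 : Γ(G.left, ⊤)) ⊗ₜ[k] a))

theorem ev_matCoef (ρ : VecGrp.GMod G M) (l : M →ₗ[k] k) (a : M) {B : Type u} [CommRing B] [Algebra k B]
    (x : VecGrp.pt k B ⟶ G) : ev x (matCoef ρ l a) = coef l B (ρ.ρ B x ((1 : B) ⊗ₜ[k] a)) := by
  rw [matCoef, coef_natural, ρ.naturality, ptMap_ev, VecGrp.Wmap_tmul, map_one]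

theorem ev_eq_of_isRTransInv {T : Over (Spec (CommRingCat.of k))} {g : T ⟶ G} {f : Γ(G.left, ⊤)}
    (hf : AGF.IsRTransInv g f) {B : Type u} [CommRing B] [Algebra k B] (x : VecGrp.pt k B ⟶ G)
    (t : VecGrp.pt k B ⟶ T) : ev (x * (t ≫ g)) f = ev x f := by
  have h := congrArg (ev (lift x t)) (show Γmap ((G ◁ g) ≫ μ[G]) f = Γmap (fst G T) f from hf)
  rw [← AlgHom.comp_apply, ← ev_comp, ← AlgHom.comp_apply, ← ev_comp, lift_fst] at h
  rw [Hom.mul_def]
  rwa [← Category.assoc, lift_whiskerLeft] at h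

omit [IsAffine G.left] in
theorem isRTransInv_of_ev {T : Over (Spec (CommRingCat.of k))} [IsAffine (G ⊗ T).left] {g : T ⟶ G}
    {f : Γ(G.left, ⊤)}
    (hf : ∀ (B : Type u) [CommRing B] [Algebra k B] (x : VecGrp.pt k B ⟶ G) (t : VecGrp.pt k B ⟶ T),
      ev (x * (t ≫ g)) f = ev x f) : AGF.IsRTransInv g f := by
  let w := taut (G ⊗ T)
  have h := hf _ (w ≫ fst G T) (w ≫ snd G T)
  rw [Hom.mul_def, show lift (w ≫ fst G T) ((w ≫ snd G T) ≫ g) = w ≫ (G ◁ g) by
    apply CartesianMonoidalCategory.hom_ext <;> simp, Category.assoc, ev_comp w, ev_comp w, ev_taut] at h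
  exact h

omit [IsAffine G.left] in
theorem isAffine_tensor [IsAffine G.left] [IsAffine H.left] : IsAffine (G ⊗ H).left := by
  rw [Over.tensorObj_left]; infer_instance

theorem isRTransInv_matCoef [GrpObj H] [IsAffine H.left] (i : H ⟶ G) (ρ : VecGrp.GMod G M) (l : M →ₗ[k] k) {a : M}
    (ha : a ∈ ρ.fixedUnder i) : AGF.IsRTransInv i (matCoef ρ l a) := by
  haveI := isAffine_tensor (G := G) (H := H)
  refine isRTransInv_of_ev fun B _ _ x t => ?_
  rw [ev_matCoef, ev_matCoef, map_mul]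
  show coef l B (ρ.ρ B x (ρ.ρ B (t ≫ i) ((1 : B) ⊗ₜ[k] a))) = _
  rw [ha B t]

/-- An invariant vector is fixed by the observable hull. -/
theorem fixed_of_hull [GrpObj H] [IsAffine H.left] (i : H ⟶ G) (ρ : VecGrp.GMod G M) (g : VecGrp.pt k k ⟶ G)
    (hg : ∀ f : Γ(G.left, ⊤), AGF.IsRTransInv i f → AGF.IsRTransInv g f) {a : M} (ha : a ∈ ρ.fixedUnder i) :
    ρ.ρ k g ((1 : k) ⊗ₜ[k] a) = (1 : k) ⊗ₜ[k] a := by
  apply (TensorProduct.lid k M).injective
  refine sub_eq_zero.mp ((Module.forall_dual_apply_eq_zero_iff k _).mp fun l => ?_)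
  rw [map_sub, sub_eq_zero]
  have key : ∀ z : k ⊗[k] M, l (TensorProduct.lid k M z) = coef l k z := by
    intro z
    induction z with
    | zero => simp
    | add p q hp hq => simp only [map_add, hp, hq]
    | tmul c x => simp [coef, mul_comm]
  rw [key, key]
  have h := ev_eq_of_isRTransInv (hg _ (isRTransInv_matCoef i ρ l ha)) 1 (𝟙 _)
  rw [Category.id_comp, _root_.one_mul, ev_matCoef, ev_matCoef, map_one] at h
  exact h

end Groth.Agent.AGFObs
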