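import Groth.Agent.AGFObsLib.Points
import Groth.Agent.TorusField.Bridge
import Groth.Agent.Comodule.LineStab
import Groth.Agent.GModComodLib.Main

/-! A subgroup without characters is observable. -/

set_option autoImplicit false
set_option backward.isDefEq.respectTransparency false

universe u

open CategoryTheory MonoidalCategory CartesianMonoidalCategory MonObj GrpObj AlgebraicGeometry WithConv
open scoped TensorProduct

noncomputable section

namespace Groth.Agent.AGFObs

open TorusField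

variable {k : Type u} [Field k]

/-- A group-like element of a Hopf algebra gives a homomorphism from the Laurent polynomials. -/
theorem exists_bialgHom_of_groupLike {B : Type u} [CommRing B] [HopfAlgebra k B] {χ : B}
    (hχ : IsGroupLikeElem k χ) :
    ∃ φ : MonoidAlgebra k (Multiplicative ℤ) →ₐc[k] B, φ (MonoidAlgebra.single (Multiplicative.ofAdd 1) 1) = χ := by
  obtain ⟨v, hv⟩ := hχ.isUnit
  let f : Multiplicative ℤ →* B := (Units.coeHom B).comp (zpowersHom Bˣ v)
  let φ₀ : MonoidAlgebra k (Multiplicative ℤ) →ₐ[k] B := MonoidAlgebra.lift k B _ f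
  have hf : ∀ z : ℤ, φ₀ (MonoidAlgebra.single (Multiplicative.ofAdd z) 1) = ↑(v ^ z) := fun z => by
    simp [φ₀, f]
  have hnat : ∀ m : ℕ, IsGroupLikeElem k ((v : B) ^ m) := fun m => by
    rw [hv]; exact hχ.pow
  have hinv : ∀ m : ℕ, IsGroupLikeElem k ((↑(v⁻¹) : B) ^ m) := fun m => by
    obtain ⟨w, hw, hw'⟩ : ∃ w : B, IsGroupLikeElem k w ∧ w * (v : B) = 1 :=
      ⟨HopfAlgebra.antipode k χ, hχ.antipode, by rw [hv]; exact hχ.antipode_mul_cancel⟩
    rw [show (↑(v⁻¹) : B) = w from Units.inv_eq_of_mul_eq_one_left hw']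
    exact hw.pow
  have hgl : ∀ z : ℤ, IsGroupLikeElem k (↑(v ^ z) : B) := by
    intro z
    cases z with
    | ofNat m => simpa using hnat m
    | negSucc m => simpa [zpow_negSucc] using hinv (m + 1)
  refine ⟨BialgHom.ofAlgHom φ₀ ?_ ?_, ?_⟩
  · refine MonoidAlgebra.algHom_ext (fun z => ?_) (Subsingleton.elim _ _)
    show Coalgebra.counit (R := k) (φ₀ (MonoidAlgebra.single z 1)) = Coalgebra.counit (R := k) (MonoidAlgebra.single z (1 : k))
    rw [← ofAdd_toAdd z, hf, (hgl _).counit_eq_one]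
    simp
  · refine MonoidAlgebra.algHom_ext (fun z => ?_) (Subsingleton.elim _ _)
    show Algebra.TensorProduct.map φ₀ φ₀ (Coalgebra.comul (R := k) (MonoidAlgebra.single z 1)) =
      Coalgebra.comul (R := k) (φ₀ (MonoidAlgebra.single z 1))
    rw [← ofAdd_toAdd z, hf, (hgl _).comul_eq_tmul_self]
    simp only [← hf, ofAdd_toAdd, MonoidAlgebra.comul_single]
    simp
  · show φ₀ _ = χ
    rw [hf, zpow_one, hv]

theorem eq_one_of_groupLike {H : Over (Spec (CommRingCat.of k))} [GrpObj H] {B : Type u} [CommRing B]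
    [HopfAlgebra k B] (eH : specGrp k B ≅ Grp.mk H)
    (hχ : ∀ (χ : H ⟶ Red.Gm (Spec (CommRingCat.of k))), IsMonHom χ → χ = 1) {χ : B} (hg : IsGroupLikeElem k χ) :
    χ = 1 := by
  obtain ⟨φ, rfl⟩ := exists_bialgHom_of_groupLike hg
  let f := eH.inv ≫ specHom φ ≫ (dsIso k ℤ).inv
  have h1 : f.hom.hom = 1 := hχ _ f.hom.isMonHom_hom
  have h2 : (specHom φ).hom.hom = 1 := by
    have h3 : f = eH.inv ≫ specHom φ ≫ (dsIso k ℤ).inv := rfl
    have h4 : specHom φ = eH.hom ≫ f ≫ (dsIso k ℤ).hom := by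
      rw [h3]; simp
    rw [h4]
    show eH.hom.hom.hom ≫ f.hom.hom ≫ (dsIso k ℤ).hom.hom.hom = 1
    haveI : IsMonHom (dsIso k ℤ).hom.hom.hom := (dsIso k ℤ).hom.hom.isMonHom_hom
    rw [h1, MonObj.one_comp, MonObj.comp_one]
  have h5 : toConv (φ : MonoidAlgebra k (Multiplicative ℤ) →ₐ[k] B) =
      (1 : WithConv (MonoidAlgebra k (Multiplicative ℤ) →ₐ[k] B)) := by
    apply (GModComod.pts (R := k) (A := MonoidAlgebra k (Multiplicative ℤ)) (B := B)).injective
    rw [map_one]
    exact h2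
  have h6 := congrArg (fun g => g.ofConv (MonoidAlgebra.single (Multiplicative.ofAdd (1 : ℤ)) (1 : k))) h5
  refine h6.trans ?_
  rw [AlgHom.convOne_apply]
  simp

/-- A subgroup without characters is observable. -/
theorem isObservable_of_no_character {G H : Over (Spec (CommRingCat.of k))} [GrpObj G] [GrpObj H] [IsAffine G.left]
    [LocallyOfFiniteType G.hom] (i : H ⟶ G) [IsMonHom i] [IsClosedImmersion i.left]
    (hχ : ∀ (χ : H ⟶ Red.Gm (Spec (CommRingCat.of k))), IsMonHom χ → χ = 1) : AGF.IsObservableIn k i := by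
  haveI : IsAffine H.left := isAffine_of_isAffineHom i.left
  obtain ⟨A, _, _, ⟨eA⟩⟩ := exists_hopf k G
  obtain ⟨B, _, _, ⟨eB⟩⟩ := exists_hopf k H
  let v : Grp.mk H ⟶ Grp.mk G := Grp.homMk' (Mon.Hom.mk' i)
  let φ := (hopfSpec.fullyFaithful (R := CommRingCat.of k)).preimage
    (X := Opposite.op (CommHopfAlgCat.of k B)) (Y := Opposite.op (CommHopfAlgCat.of k A)) (eB.hom ≫ v ≫ eA.inv)
  let π : A →ₐc[k] B := φ.unop.hom
  let e : GModComod.Gr k A ≅ G := (Grp.forget _).mapIso eA
  let e' : GModComod.Gr k B ≅ H := (Grp.forget _).mapIso eB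
  have hi : e'.hom ≫ i ≫ e.inv = (specHom π).hom.hom := by
    have := congrArg (fun f => f.hom.hom) ((hopfSpec.fullyFaithful (R := CommRingCat.of k)).map_preimage
      (X := Opposite.op (CommHopfAlgCat.of k B)) (Y := Opposite.op (CommHopfAlgCat.of k A)) (eB.hom ≫ v ≫ eA.inv))
    exact this.symm
  haveI : IsMonHom e.inv := eA.inv.hom.isMonHom_hom
  haveI : IsIso e.inv.left := ((Over.forget _).mapIso e).isIso_inv
  haveI : IsIso e'.hom.left := ((Over.forget _).mapIso e').isIso_hom
  have hπ : Function.Surjective π := by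
    haveI : IsClosedImmersion (Spec.map (CommRingCat.ofHom (π : A →+* B))) := by
      show IsClosedImmersion (specHom π).hom.hom.left
      rw [← hi, Over.comp_left, Over.comp_left]; infer_instance
    have h := (IsClosedImmersion.isAffine_surjective_of_isAffine (f := Spec.map (CommRingCat.ofHom (π : A →+* B)))).2
    have hn := Scheme.ΓSpecIso_naturality (CommRingCat.ofHom (π : A →+* B))
    intro y
    obtain ⟨z, hz⟩ := h ((Scheme.ΓSpecIso (CommRingCat.of B)).inv y)
    refine ⟨(Scheme.ΓSpecIso (CommRingCat.of A)).hom z, ?_⟩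
    refine (congrArg (fun f => f.hom z) hn).symm.trans ?_
    refine (congrArg (Scheme.ΓSpecIso (CommRingCat.of B)).hom.hom hz).trans ?_
    exact congrArg (fun f => f.hom y) (Scheme.ΓSpecIso (CommRingCat.of B)).inv_hom_id
  haveI : LocallyOfFiniteType (Spec.map (CommRingCat.ofHom (algebraMap k A))) := by
    haveI : IsIso e.hom.left := ((Over.forget _).mapIso e).isIso_hom
    show LocallyOfFiniteType (GModComod.Gr k A).hom
    rw [← Over.w e.hom]
    infer_instance
  haveI : Algebra.FiniteType k A :=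
    RingHom.finiteType_algebraMap.mp ((HasRingHomProperty.Spec_iff (P := @LocallyOfFiniteType)).mp ‹_›)
  haveI : IsNoetherianRing A := Algebra.FiniteType.isNoetherianRing k A
  obtain ⟨V, _, _, c, _, w, χ, -, hgl, hw, hstab⟩ := Comodule.exists_line_stabilizer π
  have hone := eq_one_of_groupLike eB hχ hgl
  subst hone
  letI := c
  let ρ : VecGrp.GMod G V :=
    { ρ := fun B' _ _ => ((GModComod.gmod (R := k) (A := A) (E := V)).ρ B').comp (IsMonHom.monoidHom e.inv (VecGrp.pt k B'))
      naturality := fun {B B'} _ _ _ _ φ g x => by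
        show VecGrp.Wmap φ ((GModComod.gmod (R := k) (A := A) (E := V)).ρ B (g ≫ e.inv) x) =
          (GModComod.gmod (R := k) (A := A) (E := V)).ρ B' ((VecGrp.ptMap φ ≫ g) ≫ e.inv) _
        rw [(GModComod.gmod (R := k) (A := A) (E := V)).naturality, Category.assoc] }
  have hρ : ∀ (B' : Type u) [CommRing B'] [Algebra k B'] (g : VecGrp.pt k B' ⟶ G) (f : A →ₐ[k] B'),
      GModComod.pts (toConv f) = g ≫ e.inv →
      ρ.ρ B' g ((1 : B') ⊗ₜ[k] w) = TensorProduct.comm k V B' (Comodule.ptAct c f w) := by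
    intro B' _ _ g f hf
    show (GModComod.gmod (R := k) (A := A) (E := V)).ρ B' (g ≫ e.inv) _ = _
    rw [← hf]
    refine (GModComod.rho_apply _ _).trans ?_
    rw [MulEquiv.symm_apply_apply]
    exact GModComod.act_one_tmul _ _ _
  have hfix : w ∈ ρ.fixedUnder i := by
    intro B' _ _ h
    obtain ⟨f, hf⟩ := (GModComod.pts (R := k) (A := B) (B := B')).surjective (h ≫ e'.inv)
    rw [hρ B' (h ≫ i) (f.ofConv.comp (π : A →ₐ[k] B)) (by
      rw [show h ≫ i = (GModComod.pts f) ≫ e'.hom ≫ i by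
        rw [hf, Category.assoc, e'.inv_hom_id_assoc]]
      rw [Category.assoc, Category.assoc, hi]
      apply Over.OverMorphism.ext
      show Spec.map _ = Spec.map _ ≫ Spec.map _
      rw [← Spec.map_comp]
      rfl)]
    show TensorProduct.comm k V B' ((f.ofConv.toLinearMap ∘ₗ (π : A →ₐ[k] B).toLinearMap).lTensor V (c.coact w)) = _
    rw [LinearMap.lTensor_comp_apply]
    rw [show (π : A →ₐ[k] B).toLinearMap.lTensor V (c.coact w) = w ⊗ₜ[k] (1 : B) from hw]
    simp
  intro g hg
  obtain ⟨f, hf⟩ := (GModComod.pts (R := k) (A := A) (B := k)).surjective (g ≫ e.inv)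
  have h1 := fixed_of_hull i ρ g hg hfix
  rw [hρ k g f.ofConv hf] at h1
  have h2 : Comodule.StabLine c f.ofConv w := ⟨1, by
    apply (TensorProduct.comm k V k).injective
    rw [h1, TensorProduct.comm_tmul]⟩
  have hk := hstab k f.ofConv h2
  have hle : RingHom.ker (π : A →ₐ[k] B) ≤ RingHom.ker f.ofConv := fun a ha => hk a ha
  let h₀ : B →ₐ[k] k := AlgHom.liftOfSurjective (π : A →ₐ[k] B) hπ f.ofConv hle
  have hcomp : h₀.comp (π : A →ₐ[k] B) = f.ofConv :=
    AlgHom.ext fun a => AlgHom.liftOfSurjective_apply (π : A →ₐ[k] B) hπ f.ofConv hle a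
  refine ⟨GModComod.pts (toConv h₀) ≫ e'.hom, ?_⟩
  rw [← cancel_mono e.inv, Category.assoc, Category.assoc, hi, ← hf]
  apply Over.OverMorphism.ext
  show Spec.map (CommRingCat.ofHom (h₀ : B →+* k)) ≫ Spec.map (CommRingCat.ofHom (π : A →+* B)) =
    Spec.map (CommRingCat.ofHom (f.ofConv : A →+* k))
  rw [← Spec.map_comp, ← hcomp]
  rfl

end Groth.Agent.AGFObs
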