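import Groth.Agent.AGFObsLib.Coeff
import Groth.Agent.SepPtsLib.Basic

/-! Functions on reduced affine varieties are determined by rational points. -/

set_option autoImplicit false
set_option backward.isDefEq.respectTransparency false

universe u

open CategoryTheory MonoidalCategory CartesianMonoidalCategory MonObj AlgebraicGeometry
open scoped TensorProduct

noncomputable section

namespace Groth.Agent.AGFObs

attribute [local instance] algΓ

variable {k : Type u} [Field k]

theorem ev_ptMap {X : Over (Spec (CommRingCat.of k))} [IsAffine X.left] {B : Type u} [CommRing B] [Algebra k B]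
    (φ : Γ(X.left, ⊤) →ₐ[k] B) : ev (VecGrp.ptMap φ ≫ taut X) = φ := by
  have h := congrArg CommaMorphism.left (ptMap_ev (VecGrp.ptMap φ ≫ taut X))
  have h' : Spec.map (CommRingCat.ofHom (ev (VecGrp.ptMap φ ≫ taut X)).toRingHom) ≫ X.left.isoSpec.inv =
      Spec.map (CommRingCat.ofHom φ.toRingHom) ≫ X.left.isoSpec.inv := h
  exact AlgHom.coe_ringHom_injective (congrArg CommRingCat.Hom.hom (Spec.map_injective ((cancel_mono _).mp h')))

theorem finiteType_Γ (X : Over (Spec (CommRingCat.of k))) [IsAffine X.left] [LocallyOfFiniteType X.hom] :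
    Algebra.FiniteType k Γ(X.left, ⊤) := by
  refine RingHom.finiteType_algebraMap.mp ?_
  show ((Scheme.ΓSpecIso (CommRingCat.of k)).inv ≫ X.hom.appTop).hom.FiniteType
  have h : X.hom.appTop.hom.FiniteType := by
    have := X.hom.finiteType_appLE (isAffineOpen_top _) (isAffineOpen_top X.left) le_top
    rwa [Scheme.Hom.appTop, Scheme.Hom.app_eq_appLE]
  exact RingHom.FiniteType.comp h
    (RingHom.FiniteType.of_surjective _ (Scheme.ΓSpecIso (CommRingCat.of k)).commRingCatIsoToRingEquiv.symm.surjective)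

/-- On a reduced affine variety over an algebraically closed field rational points separate functions. -/
theorem eq_of_ev [IsAlgClosed k] {X : Over (Spec (CommRingCat.of k))} [IsAffine X.left] [LocallyOfFiniteType X.hom]
    [AlgebraicGeometry.IsReduced X.left] {a b : Γ(X.left, ⊤)}
    (h : ∀ z : VecGrp.pt k k ⟶ X, ev z a = ev z b) : a = b := by
  haveI := finiteType_Γ X
  haveI : IsJacobsonRing Γ(X.left, ⊤) := isJacobsonRing_of_finiteType (A := k)
  rw [← sub_eq_zero]
  have hj : a - b ∈ Ideal.jacobson (⊥ : Ideal Γ(X.left, ⊤)) := by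
    refine Ideal.mem_sInf.mpr fun {m} hm => ?_
    haveI := hm.2
    letI := Ideal.Quotient.field m
    haveI : Module.Finite k (Γ(X.left, ⊤) ⧸ m) := finite_of_finite_type_of_isJacobsonRing k _
    let e := AlgEquiv.ofBijective (Algebra.ofId k (Γ(X.left, ⊤) ⧸ m)) (IsAlgClosed.algebraMap_bijective_of_isIntegral (k := k) (K := Γ(X.left, ⊤) ⧸ m))
    let φ : Γ(X.left, ⊤) →ₐ[k] k := e.symm.toAlgHom.comp (Ideal.Quotient.mkₐ k m)
    have h1 := h (VecGrp.ptMap φ ≫ taut X)
    rw [ev_ptMap, ← sub_eq_zero, ← map_sub] at h1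
    exact Ideal.Quotient.eq_zero_iff_mem.mp (e.symm.injective (h1.trans (map_zero _).symm))
  have hbot : (⊥ : Ideal Γ(X.left, ⊤)).IsRadical := by
    simpa [Ideal.IsRadical, Ideal.radical_eq_iff] using (nilradical_eq_zero Γ(X.left, ⊤)).le
  rw [Ideal.jacobson_bot] at hj
  have h2 := (‹IsJacobsonRing Γ(X.left, ⊤)›.out hbot).le
  rw [Ideal.jacobson_bot] at h2
  exact Ideal.mem_bot.mp (h2 hj)

variable {G H : Over (Spec (CommRingCat.of k))} [GrpObj G]

/-- The unique map to the rational point object. -/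
def toPt (T : Over (Spec (CommRingCat.of k))) : T ⟶ VecGrp.pt k k :=
  Over.homMk T.hom (by
    show T.hom ≫ Spec.map (𝟙 _) = T.hom
    rw [Spec.map_id, Category.comp_id])

theorem pt_endo (z : VecGrp.pt k k ⟶ VecGrp.pt k k) : z = 𝟙 _ := by
  apply Over.OverMorphism.ext
  have h : z.left ≫ Spec.map (𝟙 (CommRingCat.of k)) = Spec.map (𝟙 (CommRingCat.of k)) := Over.w z
  rw [Spec.map_id] at h
  exact (Category.comp_id _).symm.trans h

/-- Left translation by a rational point. -/
def lTr (x : VecGrp.pt k k ⟶ G) : G ⟶ G := lift (toPt G ≫ x) (𝟙 G) ≫ μ[G]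

theorem comp_lTr (x g : VecGrp.pt k k ⟶ G) : g ≫ lTr x = x * g := by
  rw [Hom.mul_def, lTr, ← Category.assoc, comp_lift, Category.comp_id, ← Category.assoc,
    pt_endo (g ≫ toPt G), Category.id_comp]

theorem exists_finset_hull [IsAlgClosed k] [IsAffine G.left] [Smooth G.hom] (i : H ⟶ G) :
    ∃ s : Finset Γ(G.left, ⊤), (∀ f ∈ s, AGF.IsRTransInv i f) ∧
      ∀ g : VecGrp.pt k k ⟶ G, (∀ f ∈ s, AGF.IsRTransInv g f) →
        ∀ f : Γ(G.left, ⊤), AGF.IsRTransInv i f → AGF.IsRTransInv g f := by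
  classical
  haveI := finiteType_Γ G
  haveI : IsNoetherianRing Γ(G.left, ⊤) := Algebra.FiniteType.isNoetherianRing k _
  let c : {f : Γ(G.left, ⊤) // AGF.IsRTransInv i f} × (VecGrp.pt k k ⟶ G) → Γ(G.left, ⊤) := fun p =>
    Γmap (lTr p.2) p.1.1 - algebraMap k _ (ev p.2 p.1.1)
  obtain ⟨t, ht, htI⟩ := (Submodule.fg_span_iff_fg_span_finset_subset (Set.range c)).mp
    (IsNoetherian.noetherian (Ideal.span (Set.range c)))
  choose p hp using fun a : t => ht a.2
  refine ⟨t.attach.image fun a => (p a).1.1, fun f hf => ?_, fun g hg f hf => ?_⟩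
  · obtain ⟨a, -, rfl⟩ := Finset.mem_image.mp hf
    exact (p a).1.2
  have hc : ∀ q, ev g (c q) = ev (q.2 * g) q.1.1 - ev q.2 q.1.1 := fun q => by
    show ev g (Γmap (lTr q.2) q.1.1 - _) = _
    rw [map_sub, ← AlgHom.comp_apply, ← ev_comp, comp_lTr, AlgHom.commutes]
    rfl
  have hI : Ideal.span (Set.range c) ≤ RingHom.ker (ev g) := by
    rw [show Ideal.span (Set.range c) = Ideal.span (t : Set Γ(G.left, ⊤)) from htI, Ideal.span_le]
    intro a ha
    have h := ev_eq_of_isRTransInv (hg _ (Finset.mem_image_of_mem _ (Finset.mem_attach t ⟨a, ha⟩))) (p ⟨a, ha⟩).2 (𝟙 _)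
    rw [Category.id_comp] at h
    show ev g a = 0
    rw [← show c (p ⟨a, ha⟩) = a from hp ⟨a, ha⟩, hc, h, sub_self]
  haveI : IsAffine (VecGrp.pt k k).left := inferInstanceAs (IsAffine (Spec (CommRingCat.of k)))
  haveI : IsAffine (G ⊗ VecGrp.pt k k).left := by rw [Over.tensorObj_left]; infer_instance
  haveI : Smooth (VecGrp.pt k k).hom := by
    show Smooth (Spec.map (𝟙 (CommRingCat.of k)))
    rw [Spec.map_id]; infer_instance
  haveI : Smooth (G ⊗ VecGrp.pt k k).hom := SepPtsLib.smooth_tensor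
  haveI := ASp.isReduced_of_smooth (G ⊗ VecGrp.pt k k).hom
  show Γmap ((G ◁ g) ≫ μ[G]) f = Γmap (fst G (VecGrp.pt k k)) f
  refine eq_of_ev fun z => ?_
  rw [← AlgHom.comp_apply, ← ev_comp, ← AlgHom.comp_apply, ← ev_comp]
  have hz : z ≫ (G ◁ g) ≫ μ[G] = (z ≫ fst _ _) * g := by
    rw [Hom.mul_def, ← Category.assoc]
    congr 1
    apply CartesianMonoidalCategory.hom_ext
    · simp
    · rw [Category.assoc, whiskerLeft_snd, ← Category.assoc, pt_endo (z ≫ snd G (VecGrp.pt k k)), Category.id_comp,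
        lift_snd]
  rw [hz, ← sub_eq_zero, ← hc (⟨f, hf⟩, z ≫ fst _ _)]
  exact hI (Ideal.subset_span ⟨(⟨f, hf⟩, z ≫ fst _ _), rfl⟩)

end Groth.Agent.AGFObs
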